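import Mathlib

/-!
Finitely presentable objects among perfect algebras are perfectly finitely presented.
-/

set_option autoImplicit false
universe u

open CategoryTheory CategoryTheory.Limits

namespace PerfFPLib

variable {p : ℕ} [hp : Fact p.Prime] {B : CommRingCat.{u}}

variable (p B) in
/-- The property of a `B`-algebra to be perfect of characteristic `p`. -/
abbrev Perfect : ObjectProperty (Under B) :=
  fun Y => (p : Y.right) = 0 ∧ Function.Bijective fun y : Y.right => y ^ p

variable (p B) in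
/-- Perfect `B`-algebras. -/
abbrev Cat := ObjectProperty.FullSubcategory (Perfect p B)

/-- Object constructor. -/
abbrev mkObj (R : Type u) [CommRing R] (φ : B →+* R) (h0 : (p : R) = 0)
    (h : Function.Bijective fun y : R => y ^ p) : Cat p B :=
  ⟨Under.mk (CommRingCat.ofHom φ), h0, h⟩

/-- Morphism constructor. -/
abbrev mkHom {X Y : Cat p B} (f : X.obj.right →+* Y.obj.right)
    (hf : f.comp X.obj.hom.hom = Y.obj.hom.hom) : X ⟶ Y :=
  ObjectProperty.homMk (Under.homMk (CommRingCat.ofHom f) (CommRingCat.hom_ext hf))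

/-- The ring hom underlying a morphism. -/
abbrev toRingHom {X Y : Cat p B} (f : X ⟶ Y) : X.obj.right →+* Y.obj.right := f.hom.right.hom

theorem toRingHom_comp_hom {X Y : Cat p B} (f : X ⟶ Y) :
    (toRingHom f).comp X.obj.hom.hom = Y.obj.hom.hom :=
  congrArg CommRingCat.Hom.hom (Under.w f.hom)

theorem hom_ext {X Y : Cat p B} {f g : X ⟶ Y} (h : toRingHom f = toRingHom g) : f = g :=
  ObjectProperty.hom_ext _ (Under.UnderMorphism.ext (CommRingCat.hom_ext h))

theorem toRingHom_comp {X Y Z : Cat p B} (f : X ⟶ Y) (g : Y ⟶ Z) :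
    toRingHom (f ≫ g) = (toRingHom g).comp (toRingHom f) := rfl

theorem toRingHom_id (X : Cat p B) : toRingHom (𝟙 X) = RingHom.id _ := rfl

theorem toRingHom_mkHom {X Y : Cat p B} (f : X.obj.right →+* Y.obj.right)
    (hf : f.comp X.obj.hom.hom = Y.obj.hom.hom) : toRingHom (mkHom f hf) = f := rfl

theorem pow_add_of_zero {R : Type*} [CommRing R] (h0 : (p : R) = 0) (x y : R) :
    (x + y) ^ p = x ^ p + y ^ p := by
  obtain ⟨r, hr⟩ := exists_add_pow_prime_eq hp.out x y
  rw [hr, h0]
  ring

theorem pow_pow_add {R : Type*} [CommRing R] (h0 : (p : R) = 0) (x y : R) (n : ℕ) :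
    (x + y) ^ p ^ n = x ^ p ^ n + y ^ p ^ n := by
  induction n with
  | zero => simp
  | succ n ih => rw [pow_succ p n, pow_mul, pow_mul, pow_mul, ih, pow_add_of_zero h0]

theorem pow_pow_injective {R : Type*} [CommRing R] (h : Function.Bijective fun y : R => y ^ p)
    (n : ℕ) : Function.Injective fun y : R => y ^ p ^ n := by
  induction n with
  | zero => intro x y hxy; simpa using hxy
  | succ n ih =>
    intro x y hxy
    simp only [pow_succ p n, pow_mul] at hxy
    exact ih (h.1 hxy)

section PerfectClosureSub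

variable {T : Type u} [CommRing T] (h0 : (p : T) = 0)
include h0

/-- Elements some `p`-power of which lies in a subring. -/
def radSubring (R : Subring T) : Subring T where
  carrier := {a | ∃ n : ℕ, a ^ p ^ n ∈ R}
  zero_mem' := ⟨0, by simp [R.zero_mem]⟩
  one_mem' := ⟨0, by simp [R.one_mem]⟩
  mul_mem' := by
    rintro a b ⟨n, hn⟩ ⟨m, hm⟩
    refine ⟨n + m, ?_⟩
    rw [mul_pow, pow_add p, pow_mul, mul_comm (p ^ n), pow_mul]
    exact R.mul_mem (R.pow_mem hn _) (R.pow_mem hm _)
  add_mem' := by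
    rintro a b ⟨n, hn⟩ ⟨m, hm⟩
    refine ⟨n + m, ?_⟩
    rw [pow_pow_add h0, pow_add p, pow_mul, mul_comm (p ^ n), pow_mul]
    exact R.add_mem (R.pow_mem hn _) (R.pow_mem hm _)
  neg_mem' := by
    rintro a ⟨n, hn⟩
    refine ⟨n, ?_⟩
    rw [neg_pow]
    exact R.mul_mem (R.pow_mem (R.neg_mem R.one_mem) _) hn

end PerfectClosureSub

variable (A : Cat p B)

section Family

variable (R : Finset A.obj.right → Subring A.obj.right)
  (hmono : ∀ {S S' : Finset A.obj.right}, S ≤ S' → R S ≤ R S')
  (hβ : ∀ S b, A.obj.hom.hom b ∈ R S) (hmem : ∀ a, a ∈ R {a})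
  (hperf : ∀ S, Function.Bijective fun y : R S => y ^ p)

/-- A perfect subalgebra as an object. -/
noncomputable abbrev subObj (S : Finset A.obj.right) : Cat p B :=
  mkObj (R S) (A.obj.hom.hom.codRestrict (R S) (hβ S)) (Subtype.ext (by simpa using A.property.1))
    (hperf S)

/-- A system of perfect subalgebras. -/
noncomputable abbrev subDiagram : Finset A.obj.right ⥤ Cat p B where
  obj := subObj A R hβ hperf
  map {S S'} h := mkHom (X := subObj A R hβ hperf S) (Y := subObj A R hβ hperf S')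
    (Subring.inclusion (hmono (leOfHom h))) (RingHom.ext fun _ => Subtype.ext rfl)
  map_id _ := hom_ext (RingHom.ext fun _ => Subtype.ext rfl)
  map_comp _ _ := hom_ext (RingHom.ext fun _ => Subtype.ext rfl)

include hmono hβ hmem hperf in
open Classical in
/-- A finitely presentable algebra lies in one member of an exhausting system of subalgebras. -/
theorem exists_forall_mem [IsFinitelyPresentable.{u} A] : ∃ S, ∀ a, a ∈ R S := by
  let D := subDiagram A R hmono hβ hperf
  let c : Cocone D :=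
    { pt := A
      ι := { app := fun S => mkHom (X := subObj A R hβ hperf S) (Y := A) (R S).subtype
               (RingHom.ext fun _ => rfl)
             naturality := fun _ _ _ => hom_ext (RingHom.ext fun _ => rfl) } }
  let L : ∀ (s : Cocone D) (S : Finset A.obj.right), R S →+* s.pt.obj.right :=
    fun s S => toRingHom (s.ι.app S)
  have hL : ∀ (s : Cocone D) (S S' : Finset A.obj.right) (h : S ≤ S') (x : R S),
      L s S' (Subring.inclusion (hmono h) x) = L s S x := fun s S S' h x =>
    RingHom.congr_fun (congrArg toRingHom (s.w (homOfLE h))) x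
  have key : ∀ (s : Cocone D) (a : A.obj.right) (S : Finset A.obj.right) (h : a ∈ R S),
      L s S ⟨a, h⟩ = L s {a} ⟨a, hmem a⟩ := fun s a S h =>
    (hL s S (S ⊔ {a}) le_sup_left ⟨a, h⟩).symm.trans (hL s {a} (S ⊔ {a}) le_sup_right ⟨a, hmem a⟩)
  let d : ∀ s : Cocone D, A.obj.right →+* s.pt.obj.right := fun s =>
    { toFun := fun a => L s {a} ⟨a, hmem a⟩
      map_zero' := map_zero (L s {0})
      map_one' := map_one (L s {1})
      map_add' := fun a b => by
        have ha := hmono (le_sup_left : {a} ≤ {a} ⊔ {b}) (hmem a)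
        have hb := hmono (le_sup_right : {b} ≤ {a} ⊔ {b}) (hmem b)
        rw [← key s a _ ha, ← key s b _ hb, ← key s (a + b) _ (add_mem ha hb)]
        exact map_add (L s _) ⟨a, ha⟩ ⟨b, hb⟩
      map_mul' := fun a b => by
        have ha := hmono (le_sup_left : {a} ≤ {a} ⊔ {b}) (hmem a)
        have hb := hmono (le_sup_right : {b} ≤ {a} ⊔ {b}) (hmem b)
        rw [← key s a _ ha, ← key s b _ hb, ← key s (a * b) _ (mul_mem ha hb)]
        exact map_mul (L s _) ⟨a, ha⟩ ⟨b, hb⟩ }
  have hc : IsColimit c :=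
    { desc := fun s => mkHom (X := A) (Y := s.pt) (d s) (RingHom.ext fun b =>
        RingHom.congr_fun (toRingHom_comp_hom (s.ι.app {A.obj.hom.hom b})) b)
      fac := fun s S => hom_ext (RingHom.ext fun a => (key s a.1 S a.2).symm)
      uniq := fun s m hm => hom_ext (RingHom.ext fun a =>
        RingHom.congr_fun (congrArg toRingHom (hm {a})) (⟨a, hmem a⟩ : R {a})) }
  obtain ⟨S, q, hq⟩ := IsFinitelyPresentable.exists_hom_of_isColimit.{u} hc (X := A) (𝟙 A)
  refine ⟨S, fun a => ?_⟩
  let r : R S := toRingHom q a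
  have e : (r : A.obj.right) = a := RingHom.congr_fun (congrArg toRingHom hq) a
  exact e ▸ r.2

end Family

/-- Step one: a finitely presentable perfect algebra is perfectly generated by finitely many
elements. -/
theorem exists_generators [IsFinitelyPresentable.{u} A] :
    ∃ S : Finset A.obj.right, ∀ a : A.obj.right, ∃ n : ℕ,
      a ^ p ^ n ∈ Subring.closure (Set.range A.obj.hom.hom ∪ (S : Set A.obj.right)) := by
  obtain ⟨h0, hbij⟩ := A.property
  refine exists_forall_mem A (fun S =>
    radSubring h0 (Subring.closure (Set.range A.obj.hom.hom ∪ (S : Set A.obj.right)))) ?_ ?_ ?_ ?_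
  · rintro S S' h a ⟨n, hn⟩
    exact ⟨n, Subring.closure_mono (Set.union_subset_union_right _ (Finset.coe_subset.2 h)) hn⟩
  · intro S b
    refine ⟨0, ?_⟩
    rw [pow_zero, pow_one]
    exact Subring.subset_closure (Set.mem_union_left _ ⟨b, rfl⟩)
  · intro a
    refine ⟨0, ?_⟩
    rw [pow_zero, pow_one]
    exact Subring.subset_closure (Set.mem_union_right _ (by simp))
  · intro S
    refine ⟨fun y z h => Subtype.ext (hbij.1 (congrArg Subtype.val h)), fun y => ?_⟩
    obtain ⟨n, hn⟩ := y.2
    obtain ⟨r, hr⟩ := hbij.2 (y : A.obj.right)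
    refine ⟨⟨r, n + 1, ?_⟩, Subtype.ext hr⟩
    rw [pow_succ' p n, pow_mul, show r ^ p = (y : A.obj.right) from hr]
    exact hn

theorem pow_mem_map {K P : Type*} [CommRing K] [CommRing P] (h0 : (p : P) = 0) (i : K →+* P)
    [IsPRadical i p] (I : Ideal K) {z : P} (hz : z ∈ I.map i) :
    ∃ n : ℕ, ∃ w ∈ I, i w = z ^ p ^ n := by
  induction hz using Submodule.span_induction with
  | mem z hz =>
    obtain ⟨w, hw, rfl⟩ := hz
    exact ⟨0, w, hw, by simp⟩
  | zero => exact ⟨0, 0, zero_mem _, by simp⟩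
  | add x y _ _ hx hy =>
    obtain ⟨n, v, hv, hv'⟩ := hx
    obtain ⟨m, w, hw, hw'⟩ := hy
    refine ⟨n + m, v ^ p ^ m + w ^ p ^ n,
      add_mem (I.pow_mem_of_mem hv _ (Nat.pow_pos hp.out.pos))
        (I.pow_mem_of_mem hw _ (Nat.pow_pos hp.out.pos)), ?_⟩
    rw [map_add, map_pow, map_pow, hv', hw', pow_pow_add h0, pow_add p n m, pow_mul,
      mul_comm (p ^ n), pow_mul]
  | smul a x _ hx =>
    obtain ⟨n, v, hv, hv'⟩ := hx
    obtain ⟨m, b, hb⟩ := IsPRadical.pow_mem i p a
    refine ⟨n + m, b ^ p ^ n * v ^ p ^ m,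
      I.mul_mem_left _ (I.pow_mem_of_mem hv _ (Nat.pow_pos hp.out.pos)), ?_⟩
    rw [map_mul, map_pow, map_pow, hb, hv', smul_eq_mul, mul_pow, pow_add p n m, pow_mul x,
      mul_comm (p ^ n), pow_mul a]

section Quotients

variable {P : Type u} [CommRing P] {κ : Type u} (ev' : P →+* A.obj.right)
  (hev's : Function.Surjective ev') (J : Finset κ → Ideal P)
  (hJmono : ∀ {G G' : Finset κ}, G ≤ G' → J G ≤ J G') (hJker : ∀ G, ∀ z ∈ J G, ev' z = 0)
  (hQ0 : ∀ G, ((p : ℕ) : P ⧸ J G) = 0)
  (hQperf : ∀ G, Function.Bijective fun y : P ⧸ J G => y ^ p)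
  (β : B →+* P) (hev'β : ev'.comp β = A.obj.hom.hom)
  (hcover : ∀ z, ev' z = 0 → ∃ g : κ, z ∈ J {g})

/-- A perfect quotient as an object. -/
noncomputable abbrev quotObj (G : Finset κ) : Cat p B :=
  mkObj (P ⧸ J G) ((Ideal.Quotient.mk (J G)).comp β) (hQ0 G) (hQperf G)

/-- A system of perfect quotients. -/
noncomputable abbrev quotDiagram : Finset κ ⥤ Cat p B where
  obj := quotObj J hQ0 hQperf β
  map {G G'} h := mkHom (X := quotObj J hQ0 hQperf β G) (Y := quotObj J hQ0 hQperf β G')
    (Ideal.Quotient.factor (hJmono (leOfHom h))) (RingHom.ext fun _ => rfl)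
  map_id _ := hom_ext (Ideal.Quotient.ringHom_ext (RingHom.ext fun _ => rfl))
  map_comp _ _ := hom_ext (Ideal.Quotient.ringHom_ext (RingHom.ext fun _ => rfl))

include hev's hJmono hQ0 hQperf hev'β hcover in
open Classical in
/-- A finitely presentable algebra is a retract of one member of a system of quotients. -/
theorem exists_section [IsFinitelyPresentable.{u} A] :
    ∃ (G₀ : Finset κ) (q : A.obj.right →+* P ⧸ J G₀),
      (∀ a, Ideal.Quotient.lift (J G₀) ev' (hJker G₀) (q a) = a) ∧
      q.comp A.obj.hom.hom = (Ideal.Quotient.mk (J G₀)).comp β := by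
  let D := quotDiagram J hJmono hQ0 hQperf β
  let c : Cocone D :=
    { pt := A
      ι := { app := fun G => mkHom (X := quotObj J hQ0 hQperf β G) (Y := A)
               (Ideal.Quotient.lift (J G) ev' (hJker G)) hev'β
             naturality := fun _ _ _ =>
               hom_ext (Ideal.Quotient.ringHom_ext (RingHom.ext fun _ => rfl)) } }
  let L : ∀ (s : Cocone D) (G : Finset κ), P →+* s.pt.obj.right := fun s G =>
    (toRingHom (s.ι.app G)).comp (Ideal.Quotient.mk (J G))
  have key : ∀ (s : Cocone D) (G : Finset κ) (z : P), L s G z = L s ∅ z := fun s G z =>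
    RingHom.congr_fun (congrArg toRingHom (s.w (homOfLE (Finset.empty_subset G))))
      (Ideal.Quotient.mk (J ∅) z)
  have hdesc : ∀ s : Cocone D, RingHom.ker ev' ≤ RingHom.ker (L s ∅) := by
    intro s z hz
    obtain ⟨g, hg⟩ := hcover z hz
    rw [RingHom.mem_ker, ← key s {g} z]
    show toRingHom (s.ι.app {g}) (Ideal.Quotient.mk (J {g}) z) = 0
    rw [Ideal.Quotient.eq_zero_iff_mem.2 hg]
    exact map_zero _
  have hfac : ∀ (s : Cocone D) (z : P),
      RingHom.liftOfSurjective ev' hev's ⟨_, hdesc s⟩ (ev' z) = L s ∅ z := fun s z =>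
    RingHom.liftOfSurjective_comp_apply _ _ _ _
  have hc : IsColimit c :=
    { desc := fun s => mkHom (X := A) (Y := s.pt)
        (RingHom.liftOfSurjective ev' hev's ⟨_, hdesc s⟩) (RingHom.ext fun b => by
          rw [RingHom.comp_apply, ← hev'β, RingHom.comp_apply, hfac]
          exact RingHom.congr_fun (toRingHom_comp_hom (s.ι.app ∅)) b)
      fac := fun s G => hom_ext (Ideal.Quotient.ringHom_ext (RingHom.ext fun z =>
        (hfac s z).trans (key s G z).symm))
      uniq := fun s m hm => hom_ext (RingHom.ext fun a => by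
        obtain ⟨z, rfl⟩ := hev's a
        exact (RingHom.congr_fun (congrArg toRingHom (hm ∅)) (Ideal.Quotient.mk (J ∅) z)).trans
          (hfac s z).symm) }
  obtain ⟨G₀, q, hq⟩ := IsFinitelyPresentable.exists_hom_of_isColimit.{u} hc (X := A) (𝟙 A)
  exact ⟨G₀, toRingHom q, RingHom.congr_fun (congrArg toRingHom hq), toRingHom_comp_hom q⟩

end Quotients

open Classical in
/-- A finitely presentable perfect algebra is the perfect closure of a finitely presented
algebra. -/
theorem exists_model [CharP B p] [IsFinitelyPresentable.{u} A] :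
    ∃ (A₀ : Type u) (_ : CommRing A₀) (_ : Algebra B A₀) (_ : Algebra.FinitePresentation B A₀)
      (k : A₀ →+* A.obj.right), k.comp (algebraMap B A₀) = A.obj.hom.hom ∧ IsPRadical k p := by
  obtain ⟨h0, hbij⟩ := A.property
  obtain ⟨S, hS⟩ := exists_generators A
  let T := A.obj.right
  let n := S.card
  let x : Fin n → T := fun i => (S.equivFin.symm i).1
  let M := MvPolynomial (Fin n) B
  let ev : M →+* T := MvPolynomial.eval₂Hom A.obj.hom.hom x
  have hev : ∀ a : T, ∃ (m : ℕ) (y : M), ev y = a ^ p ^ m := fun a => by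
    obtain ⟨m, hm⟩ := hS a
    refine ⟨m, ?_⟩
    show a ^ p ^ m ∈ ev.range
    refine (Subring.closure_le.2 ?_) hm
    rintro z (⟨b, rfl⟩ | hz)
    · exact ⟨MvPolynomial.C b, MvPolynomial.eval₂Hom_C _ _ _⟩
    · refine ⟨MvPolynomial.X (S.equivFin ⟨z, hz⟩), ?_⟩
      show MvPolynomial.eval₂Hom _ _ _ = z
      simp [x]
  rcases subsingleton_or_nontrivial T with hT | hT
  · refine ⟨M ⧸ Ideal.span {(1 : M)}, inferInstance, inferInstance,
      Algebra.FinitePresentation.quotient ⟨{1}, by simp⟩,
      { toFun := fun _ => 0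
        map_zero' := rfl
        map_one' := Subsingleton.elim _ _
        map_add' := fun _ _ => Subsingleton.elim _ _
        map_mul' := fun _ _ => Subsingleton.elim _ _ },
      RingHom.ext fun _ => Subsingleton.elim _ _, ⟨fun a => ⟨0, 0, Subsingleton.elim _ _⟩, ?_⟩⟩
    intro y _
    have : Subsingleton (M ⧸ Ideal.span {(1 : M)}) :=
      Ideal.Quotient.subsingleton_iff.2 Ideal.span_singleton_one
    rw [Subsingleton.elim y 0]
    exact zero_mem _
  haveI : CharP T p := (CharP.charP_iff_prime_eq_zero hp.out).2 h0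
  haveI : PerfectRing T p := ⟨hbij⟩
  let P := PerfectClosure M p
  let of : M →+* P := PerfectClosure.of M p
  have hP0 : (p : P) = 0 := CharP.cast_eq_zero P p
  have hPbij : Function.Bijective fun y : P => y ^ p := PerfectRing.bijective_frobenius
  let ev' : P →+* T := PerfectClosure.lift M p T ev
  have hev' : ev'.comp of = ev := (PerfectClosure.lift M p T).symm_apply_apply ev
  have hev'' : ∀ y, ev' (of y) = ev y := RingHom.congr_fun hev'
  have hev's : Function.Surjective ev' := fun a => by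
    obtain ⟨m, y, hy⟩ := hev a
    refine ⟨PerfectClosure.mk M p (m, y), pow_pow_injective hbij m ?_⟩
    show ev' _ ^ p ^ m = a ^ p ^ m
    rw [← map_pow, ← iterate_frobenius, PerfectClosure.iterate_frobenius_mk, hev'', hy]
  let K := RingHom.ker ev
  let J : Finset K → Ideal P := fun G =>
    ((Ideal.span ((Subtype.val : K → M) '' (G : Set K))).map of).radical
  have hJmono : ∀ {G G' : Finset K}, G ≤ G' → J G ≤ J G' := fun h =>
    Ideal.radical_mono (Ideal.map_mono (Ideal.span_mono (Set.image_mono (Finset.coe_subset.2 h))))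
  have hred : IsReduced T :=
    ⟨fun a ⟨k, hk⟩ => pow_pow_injective hbij k (by
      show a ^ p ^ k = 0 ^ p ^ k
      rw [zero_pow (Nat.pow_pos hp.out.pos).ne']
      exact pow_eq_zero_of_le (Nat.lt_pow_self hp.out.one_lt).le hk)⟩
  have hJker : ∀ G, ∀ z ∈ J G, ev' z = 0 := by
    rintro G z ⟨k, hk⟩
    have h1 : ev' (z ^ k) = 0 := by
      refine (Ideal.map_le_iff_le_comap.2 (Ideal.span_le.2 ?_) :
        Ideal.map of _ ≤ RingHom.ker ev') hk
      rintro _ ⟨g, -, rfl⟩
      show ev' (of g) = 0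
      rw [hev'']
      exact g.2
    rw [map_pow] at h1
    exact IsReduced.eq_zero _ ⟨k, h1⟩
  have hQ0 : ∀ G, ((p : ℕ) : P ⧸ J G) = 0 := fun G => by
    rw [← map_natCast (Ideal.Quotient.mk (J G)), hP0, map_zero]
  have hQperf : ∀ G, Function.Bijective fun y : P ⧸ J G => y ^ p := fun G => by
    constructor
    · intro y z hyz
      simp only at hyz
      have h1 : (y - z) ^ p = 0 := by
        have := pow_add_of_zero (hQ0 G) (y - z) z
        rw [sub_add_cancel, hyz] at this
        exact left_eq_add.mp (by rw [add_comm]; exact this)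
      obtain ⟨w, hw⟩ := Ideal.Quotient.mk_surjective (y - z)
      rw [← hw, ← map_pow, Ideal.Quotient.eq_zero_iff_mem] at h1
      have h2 : w ∈ J G := (Ideal.radical_isRadical _) ⟨p, h1⟩
      rw [← sub_eq_zero, ← hw, Ideal.Quotient.eq_zero_iff_mem]
      exact h2
    · intro y
      obtain ⟨w, rfl⟩ := Ideal.Quotient.mk_surjective y
      obtain ⟨r, rfl⟩ := hPbij.2 w
      exact ⟨Ideal.Quotient.mk _ r, (map_pow _ _ _).symm⟩
  let β : B →+* P := of.comp MvPolynomial.C
  have hev'β : ev'.comp β = A.obj.hom.hom := RingHom.ext fun b => by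
    show ev' (of (MvPolynomial.C b)) = _
    rw [hev'']
    exact MvPolynomial.eval₂Hom_C _ _ _
  have hcover : ∀ z, ev' z = 0 → ∃ g : K, z ∈ J {g} := by
    intro z hz
    obtain ⟨m, y, hy⟩ := IsPRadical.pow_mem of p z
    have hyK : y ∈ K := by
      show ev y = 0
      rw [← hev'', show of y = _ from hy, map_pow, hz, zero_pow (Nat.pow_pos hp.out.pos).ne']
    refine ⟨⟨y, hyK⟩, p ^ m, ?_⟩
    rw [← show of y = z ^ p ^ m from hy]
    exact Ideal.mem_map_of_mem _ (Ideal.subset_span ⟨⟨y, hyK⟩, by simp, rfl⟩)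
  obtain ⟨G₀, q, hqπ, hqβ⟩ :=
    exists_section A ev' hev's J hJmono hJker hQ0 hQperf β hev'β hcover
  have hd : ∀ i : Fin n, ∃ g : K, ∃ w : P, Ideal.Quotient.mk (J G₀) w = q (x i) ∧
      w - of (MvPolynomial.X i) ∈ J {g} := by
    intro i
    obtain ⟨w, hw⟩ := Ideal.Quotient.mk_surjective (q (x i))
    have h1 : ev' (w - of (MvPolynomial.X i)) = 0 := by
      rw [map_sub, hev'', sub_eq_zero]
      have := hqπ (x i)
      rw [← hw, Ideal.Quotient.lift_mk] at this
      rw [this]
      exact (MvPolynomial.eval₂Hom_X' _ _ _).symm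
    obtain ⟨g, hg⟩ := hcover _ h1
    exact ⟨g, w, hw, hg⟩
  choose g w hw hgw using hd
  let G : Finset K := G₀ ⊔ Finset.univ.image g
  have hG₀ : G₀ ≤ G := le_sup_left
  have hG : ∀ i, {g i} ≤ G := fun i => le_trans
    (Finset.singleton_subset_iff.2 (Finset.mem_image_of_mem g (Finset.mem_univ i))) le_sup_right
  let f : T →+* P ⧸ J G := (Ideal.Quotient.factor (hJmono hG₀)).comp q
  have hf : f.comp ev = (Ideal.Quotient.mk (J G)).comp of := by
    refine MvPolynomial.ringHom_ext (fun b => ?_) (fun i => ?_)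
    · show f (ev (MvPolynomial.C b)) = _
      rw [show ev (MvPolynomial.C b) = A.obj.hom.hom b from MvPolynomial.eval₂Hom_C _ _ _]
      show Ideal.Quotient.factor (hJmono hG₀) (q (A.obj.hom.hom b)) = _
      rw [show q (A.obj.hom.hom b) = Ideal.Quotient.mk (J G₀) (β b) from RingHom.congr_fun hqβ b]
      rfl
    · show f (ev (MvPolynomial.X i)) = _
      rw [show ev (MvPolynomial.X i) = x i from MvPolynomial.eval₂Hom_X' _ _ _]
      show Ideal.Quotient.factor (hJmono hG₀) (q (x i)) = _
      rw [← hw i]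
      show Ideal.Quotient.mk (J G) (w i) = _
      exact Ideal.Quotient.eq.2 (hJmono (hG i) (hgw i))
  let I : Ideal M := Ideal.span ((Subtype.val : K → M) '' (G : Set K))
  have hkerI : RingHom.ker ev ≤ I.radical := by
    intro y hy
    have h1 : of y ∈ J G := by
      rw [← Ideal.Quotient.eq_zero_iff_mem]
      have := RingHom.congr_fun hf y
      rw [RingHom.comp_apply, RingHom.comp_apply, show ev y = 0 from hy, map_zero] at this
      exact this.symm
    obtain ⟨m, hm⟩ := h1
    obtain ⟨k, v, hv, hv'⟩ := pow_mem_map hP0 of I hm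
    have h2 : v - y ^ (m * p ^ k) ∈ pNilradical M p := IsPRadical.ker_le of p (by
      rw [RingHom.mem_ker, map_sub, map_pow, hv', ← pow_mul, sub_self])
    rw [pNilradical_prime hp.out] at h2
    obtain ⟨e, he⟩ := h2
    have h3 : y ^ (m * p ^ k) ∈ I.radical := by
      have h4 : v - y ^ (m * p ^ k) ∈ I.radical := ⟨e, by rw [he]; exact zero_mem _⟩
      have h5 := sub_mem (Ideal.le_radical hv : v ∈ I.radical) h4
      rwa [sub_sub_cancel] at h5
    obtain ⟨e', he'⟩ := h3
    exact ⟨m * p ^ k * e', by rw [pow_mul]; exact he'⟩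
  have hIker : I ≤ RingHom.ker ev := Ideal.span_le.2 (by rintro _ ⟨g, -, rfl⟩; exact g.2)
  refine ⟨M ⧸ I, inferInstance, inferInstance,
    Algebra.FinitePresentation.quotient ⟨G.image Subtype.val, by simp [I]⟩,
    Ideal.Quotient.lift I ev hIker, RingHom.ext fun b => MvPolynomial.eval₂Hom_C _ _ _, ⟨?_, ?_⟩⟩
  · intro a
    obtain ⟨m, y, hy⟩ := hev a
    exact ⟨m, Ideal.Quotient.mk I y, hy⟩
  · intro z hz
    obtain ⟨y, rfl⟩ := Ideal.Quotient.mk_surjective z
    obtain ⟨e, he⟩ := hkerI hz
    rw [pNilradical_prime hp.out]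
    exact ⟨e, by rw [← map_pow]; exact Ideal.Quotient.eq_zero_iff_mem.2 he⟩

end PerfFPLib
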